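import Groth.Prelude.Def_AutSch
import Groth.Prelude.Def_ActBC
import Groth.Agent.GrpAct.Basic

/-!
Families of automorphisms: composition and base change of the representing group scheme.
-/

set_option autoImplicit false
set_option backward.isDefEq.respectTransparency false
set_option backward.isDefEq.respectTransparency.types false

universe u

open CategoryTheory CategoryTheory.Limits MonoidalCategory CartesianMonoidalCategory MonObj GrpObj AlgebraicGeometry

noncomputable section

namespace Groth.Agent.AutCurve

variable {S S' : Scheme.{u}} {G X : Over S} [GrpObj G] (a : AlgGrp.Action G X)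

/-- The family of the unit is trivial. -/
theorem famOf_one (T : Over S) : AutSch.famOf a (1 : T ⟶ G) = fst X T := by
  rw [AutSch.famOf, comp_one]
  exact GrpAct.one_smul' a _

/-- Composition of families. -/
theorem endOf_famOf {T : Over S} (g h : T ⟶ G) :
    AutSch.endOf (AutSch.famOf a g) ≫ AutSch.famOf a h = AutSch.famOf a (h * g) := by
  simp only [AutSch.famOf, AutSch.endOf, comp_lift_assoc, lift_fst, lift_snd_assoc]
  rw [← GrpAct.mul_smul, ← MonObj.comp_mul]

/-- Every point gives a family of automorphisms. -/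
theorem isAutFamily_famOf {T : Over S} (g : T ⟶ G) : AutSch.IsAutFamily (AutSch.famOf a g) := by
  have key : ∀ g : T ⟶ G, AutSch.endOf (AutSch.famOf a g) ≫ AutSch.endOf (AutSch.famOf a g⁻¹) = 𝟙 _ := fun g => by
    ext1
    · rw [Category.assoc, AutSch.endOf_fst, endOf_famOf, inv_mul_cancel, famOf_one, Category.id_comp]
    · rw [Category.assoc, AutSch.endOf_snd, AutSch.endOf_snd, Category.id_comp]
  refine ⟨⟨_, key g, ?_⟩⟩
  have h := key g⁻¹
  rwa [_root_.inv_inv] at h

variable (f : S' ⟶ S) (X)

/-- The comparison of the test products before and after a change of base. -/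
def cmp (T' : Over S') : (Over.map f).obj (Red.bc f X ⊗ T') ⟶ X ⊗ (Over.map f).obj T' :=
  lift (((Over.mapPullbackAdj f).homEquiv _ _).symm (fst (Red.bc f X) T')) ((Over.map f).map (snd (Red.bc f X) T'))

instance isIso_cmp (T' : Over S') : IsIso (cmp X f T') := by
  have : IsIso (cmp X f T').left := by
    have e : (cmp X f T').left = (pullbackLeftPullbackSndIso X.hom f T'.hom).hom := by
      apply pullback.hom_ext
      · simp [cmp, Adjunction.homEquiv_counit]
      · simp [cmp]
    rw [e]; infer_instance
  have : IsIso ((Over.forget S).map (cmp X f T')) := this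
  exact isIso_of_reflects_iso _ (Over.forget S)

variable {X}

theorem famOf_bc {T' : Over S'} (g : (Over.map f).obj T' ⟶ G) :
    AutSch.famOf (a.bc f) ((Over.mapPullbackAdj f).homEquiv T' G g) =
      (Over.mapPullbackAdj f).homEquiv _ X (cmp X f T' ≫ AutSch.famOf a g) := by
  rw [AutSch.famOf, ← Adjunction.homEquiv_naturality_left,
    ← ((Over.mapPullbackAdj f).homEquiv (Red.bc f X ⊗ T') X).apply_symm_apply (fst (Red.bc f X) T')]
  refine (AlgGrp.Action.lift_homEquiv_bc_act f a _ _).trans ?_
  rw [AutSch.famOf, cmp, comp_lift_assoc, lift_fst, lift_snd_assoc]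

theorem isAutFamily_cmp {T' : Over S'} (φ : X ⊗ (Over.map f).obj T' ⟶ X)
    (h : AutSch.IsAutFamily ((Over.mapPullbackAdj f).homEquiv (Red.bc f X ⊗ T') X (cmp X f T' ≫ φ))) :
    AutSch.IsAutFamily φ := by
  set φ' := (Over.mapPullbackAdj f).homEquiv (Red.bc f X ⊗ T') X (cmp X f T' ≫ φ) with hφ'
  have hsq : (Over.map f).map (AutSch.endOf φ') ≫ cmp X f T' = cmp X f T' ≫ AutSch.endOf φ := by
    ext1
    · simp only [Category.assoc, cmp, lift_fst, AutSch.endOf_fst]
      rw [← Adjunction.homEquiv_naturality_left_symm, AutSch.endOf_fst, hφ', Equiv.symm_apply_apply]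
      rfl
    · simp only [Category.assoc, cmp, lift_snd, AutSch.endOf_snd]
      rw [← Functor.map_comp, AutSch.endOf_snd]
  have : IsIso (AutSch.endOf φ') := h
  have : IsIso (cmp X f T' ≫ AutSch.endOf φ) := hsq ▸ inferInstance
  exact IsIso.of_isIso_comp_left (cmp X f T') _

/-- The base change of the automorphism group scheme is the automorphism group scheme of the base change. -/
theorem represents_bc (h : AutSch.Represents X G a) :
    AutSch.Represents (Red.bc f X) (Red.bc f G) (a.bc f) := by
  rw [AutSch.represents_iff] at h ⊢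
  intro T' φ' hφ'
  let φ : X ⊗ (Over.map f).obj T' ⟶ X :=
    inv (cmp X f T') ≫ ((Over.mapPullbackAdj f).homEquiv _ _).symm φ'
  have hφ : φ' = (Over.mapPullbackAdj f).homEquiv _ X (cmp X f T' ≫ φ) := by simp [φ]
  obtain ⟨g, hg, huniq⟩ := h _ φ (isAutFamily_cmp f φ (hφ ▸ hφ'))
  refine ⟨(Over.mapPullbackAdj f).homEquiv _ _ g, ?_, fun g' hg' => ?_⟩
  · show AutSch.famOf _ _ = _
    rw [famOf_bc, hg, ← hφ]
  · obtain ⟨g₁, rfl⟩ := ((Over.mapPullbackAdj f).homEquiv T' G).surjective g'
    refine congrArg _ (huniq g₁ ?_)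
    have := hg'.trans hφ
    rw [famOf_bc] at this
    exact (cancel_epi (cmp X f T')).1 ((Equiv.injective _) this)

end Groth.Agent.AutCurve
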