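import Groth.Agent.AutCurve.Families
import Groth.Agent.AbExt.Main
import Groth.Agent.AbExt.Curve
import Groth.Agent.WeilExt.Cor
import Groth.Agent.Castel.NefMinimal
import Groth.Agent.DvrDom.Valuative
import Groth.Agent.LieDer.Main
import Groth.Agent.FibCrit.Props
import Groth.Agent.EtaleSections.Finite
import Groth.Agent.CurveOmega.General
import Groth.Agent.CurveOmega.Closed

/-!
The automorphism group scheme of a smooth curve of genus at least two is finite and unramified.
-/

set_option autoImplicit false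
set_option linter.style.haveILetI false
set_option backward.isDefEq.respectTransparency false
set_option backward.isDefEq.respectTransparency.types false
set_option maxHeartbeats 1000000

universe u

open CategoryTheory CategoryTheory.Limits MonoidalCategory CartesianMonoidalCategory MonObj GrpObj AlgebraicGeometry

noncomputable section

namespace Groth.Agent.AutCurve

variable {S : Scheme.{u}} {X G : Over S} [GrpObj G] (a : AlgGrp.Action G X)

/-- A point over the generic point of a discrete valuation ring extends, when the fibres of the scheme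
contain no rational curves. -/
theorem exists_lift [IsProper X.hom] [Smooth X.hom] (hX : AbExt.NoP1 X.hom) (hG : AutSch.Represents X G a)
    {A : Type u} [CommRing A] [IsDomain A] [IsDiscreteValuationRing A]
    (x : Spec (CommRingCat.of (FractionRing A)) ⟶ G.left) (y : Spec (CommRingCat.of A) ⟶ S)
    (h : x ≫ G.hom = Spec.map (CommRingCat.ofHom (algebraMap A (FractionRing A))) ≫ y) :
    ∃ l : Spec (CommRingCat.of A) ⟶ G.left,
      l ≫ G.hom = y ∧ Spec.map (CommRingCat.ofHom (algebraMap A (FractionRing A))) ≫ l = x := by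
  let io := Spec.map (CommRingCat.ofHom (algebraMap A (FractionRing A)))
  haveI hio : IsOpenImmersion io := Castel.isOpenImmersion_genPt
  let T : Over S := Over.mk y
  let TK : Over S := Over.mk (io ≫ y)
  let u : TK ⟶ T := Over.homMk io rfl
  let gK : TK ⟶ G := Over.homMk x h
  let j : (X ⊗ TK).left ⟶ (X ⊗ T).left := (X ◁ u).left
  have hj1 : j ≫ pullback.fst X.hom y = pullback.fst X.hom (io ≫ y) := Over.whiskerLeft_left_fst (R := X) u
  have hj2 : j ≫ pullback.snd X.hom y = pullback.snd X.hom (io ≫ y) ≫ io := Over.whiskerLeft_left_snd (R := X) u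
  have sq : IsPullback j (pullback.snd X.hom (io ≫ y)) (pullback.snd X.hom y) io := by
    refine IsPullback.of_right ?_ hj2 (IsPullback.of_hasPullback X.hom y)
    rw [hj1]
    exact IsPullback.of_hasPullback X.hom (io ≫ y)
  haveI : IsOpenImmersion j := MorphismProperty.of_isPullback (P := @IsOpenImmersion) sq.flip hio
  let Z : Scheme.{u} := (X ⊗ T).left
  let pZ : Z ⟶ Spec (CommRingCat.of A) := pullback.snd X.hom y
  haveI : Smooth pZ := MorphismProperty.pullback_snd (P := @Smooth) _ _ ‹_›
  haveI : IsLocallyNoetherian Z := LocallyOfFiniteType.isLocallyNoetherian pZ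
  have hreg := WeilExt.regular_of_smooth (WeilExt.regular_spec (R := A)) pZ
  haveI : IsReduced Z := AbExt.isReduced_of_regular_stalks hreg
  have hdense : Dense (Set.range j) := by
    have hiod : Dense (Set.range io) := io.isOpenEmbedding.isOpen_range.dense
      ⟨_, (⊥ : PrimeSpectrum (FractionRing A)), rfl⟩
    have hr : Set.range j = pZ ⁻¹' Set.range io := by
      rw [← Scheme.Pullback.range_fst, ← sq.isoPullback_hom_fst]
      simp only [Scheme.Hom.comp_base, TopCat.coe_comp]
      rw [Set.range_comp, Set.range_eq_univ.mpr sq.isoPullback.hom.surjective, Set.image_univ]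
    rw [hr]
    exact hiod.preimage pZ.isOpenMap
  haveI : IsDominant j := ⟨hdense⟩
  have hext : ∀ φ : X ⊗ TK ⟶ X, ∃ Φ : X ⊗ T ⟶ X, AutSch.pullFam u Φ = φ := by
    intro φ
    obtain ⟨Φ, ⟨hΦ, hΦU⟩, -⟩ := AbExt.existsUnique_ext X.hom (X ⊗ T).hom hX hreg j.opensRange hdense
      (j.isoOpensRange.inv ≫ φ.left) (by
        rw [Category.assoc, Over.w φ, ← Over.w (X ◁ u), ← Category.assoc, Scheme.Hom.isoOpensRange_inv_comp])
    refine ⟨Over.homMk Φ hΦ, Over.OverMorphism.ext ?_⟩
    show j ≫ Φ = φ.left
    conv_lhs => rw [← Scheme.Hom.isoOpensRange_hom_ι j]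
    rw [Category.assoc, hΦU, Iso.hom_inv_id_assoc]
  have huniq : ∀ p q : X ⊗ T ⟶ X, AutSch.pullFam u p = AutSch.pullFam u q → p = q := by
    intro p q e
    refine Over.OverMorphism.ext (ext_of_isDominant_of_isSeparated X.hom ((Over.w p).trans (Over.w q).symm) j ?_)
    exact congrArg (fun r => r.left) e
  have hwh : ∀ {Φ : X ⊗ T ⟶ X} {φ : X ⊗ TK ⟶ X}, AutSch.pullFam u Φ = φ →
      (X ◁ u) ≫ AutSch.endOf Φ = AutSch.endOf φ ≫ (X ◁ u) := by
    intro Φ φ e
    ext1
    · rw [Category.assoc, AutSch.endOf_fst, Category.assoc, whiskerLeft_fst, AutSch.endOf_fst]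
      exact e
    · rw [Category.assoc, AutSch.endOf_snd, Category.assoc, whiskerLeft_snd, AutSch.endOf_snd_assoc]
  obtain ⟨Φ, hΦ⟩ := hext (AutSch.famOf a gK)
  obtain ⟨Ψ, hΨ⟩ := hext (AutSch.famOf a gK⁻¹)
  have hinv : ∀ (Φ Ψ : X ⊗ T ⟶ X) (g : TK ⟶ G), AutSch.pullFam u Φ = AutSch.famOf a g →
      AutSch.pullFam u Ψ = AutSch.famOf a g⁻¹ → AutSch.endOf Φ ≫ AutSch.endOf Ψ = 𝟙 _ := by
    intro Φ Ψ g hΦ hΨ
    ext1
    · rw [Category.assoc, AutSch.endOf_fst, Category.id_comp]
      apply huniq
      rw [AutSch.pullFam, ← Category.assoc, hwh hΦ, Category.assoc]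
      show AutSch.endOf _ ≫ AutSch.pullFam u Ψ = _
      rw [hΨ, endOf_famOf, inv_mul_cancel, famOf_one, AutSch.pullFam, whiskerLeft_fst]
    · rw [Category.assoc, AutSch.endOf_snd, AutSch.endOf_snd, Category.id_comp]
  have haut : AutSch.IsAutFamily Φ :=
    ⟨⟨_, hinv Φ Ψ gK hΦ hΨ, hinv Ψ Φ gK⁻¹ hΨ (by rw [_root_.inv_inv]; exact hΦ)⟩⟩
  rw [AutSch.represents_iff] at hG
  obtain ⟨g, hg, -⟩ := hG T Φ haut
  refine ⟨g.left, Over.w g, ?_⟩
  have he : u ≫ g = gK := (hG TK _ (isAutFamily_famOf a gK)).unique (by rw [AutSch.famOf_comp, hg, hΦ]) rfl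
  exact congrArg (fun r => r.left) he

/-- The automorphism group scheme is proper. -/
theorem isProper [IsLocallyNoetherian S] [IsProper X.hom] [Smooth X.hom] (hX : AbExt.NoP1 X.hom)
    (hG : AutSch.Represents X G a) [QuasiCompact G.hom] [IsSeparated G.hom] [LocallyOfFiniteType G.hom] :
    IsProper G.hom := by
  refine DvrDom.isProper_of_dvr G.hom fun A _ _ _ x y h => ?_
  obtain ⟨l, h1, h2⟩ := exists_lift a hX hG x y h
  refine ⟨l, ⟨h1, h2⟩, fun l' hl' => ?_⟩
  haveI : IsOpenImmersion (Spec.map (CommRingCat.ofHom (algebraMap A (FractionRing A)))) :=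
    Castel.isOpenImmersion_genPt
  haveI : IsDominant (Spec.map (CommRingCat.ofHom (algebraMap A (FractionRing A)))) :=
    ⟨(Spec.map (CommRingCat.ofHom (algebraMap A (FractionRing A)))).isOpenEmbedding.isOpen_range.dense
      ⟨_, (⊥ : PrimeSpectrum (FractionRing A)), rfl⟩⟩
  exact ext_of_isDominant_of_isSeparated G.hom (hl'.1.trans h1.symm) _ (hl'.2.trans h2.symm)

/-- The automorphism group scheme of a family of curves of genus at least two is unramified. -/
theorem formallyUnramified [IsProper X.hom] [Smooth X.hom] [GeometricallyConnected X.hom]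
    (hdim : ∀ s : S, topologicalKrullDim ↥(X.hom.fiber s) = 1)
    (hgen : ∀ s : S, letI : (X.hom.fiber s).Over (Spec (S.residueField s)) := ⟨X.hom.fiberToSpecResidueField s⟩
      2 ≤ Curv2.genus (S.residueField s) (X.hom.fiber s))
    [LocallyOfFiniteType G.hom] (hG : AutSch.Represents X G a) : FormallyUnramified G.hom := by
  refine FibCrit.formallyUnramified_of_fiberToSpecResidueField G.hom fun s => ?_
  let y : Spec (CommRingCat.of (S.residueField s)) ⟶ S := S.fromSpecResidueField s
  let κ := S.residueField s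
  let b := Spec.map (CommRingCat.ofHom (algebraMap κ (AlgebraicClosure κ)))
  haveI : Surjective b := ⟨fun _ => ⟨IsLocalRing.closedPoint _, Subsingleton.elim _ _⟩⟩
  haveI : Flat b := AlgSpLib.flat_of_field _
  let F : Scheme.{u} := X.hom.fiber s
  letI : F.Over (Spec (CommRingCat.of κ)) := ⟨X.hom.fiberToSpecResidueField s⟩
  haveI : IsProper (F ↘ Spec (CommRingCat.of κ)) := MorphismProperty.pullback_snd (P := @IsProper) _ _ ‹_›
  haveI : Smooth (F ↘ Spec (CommRingCat.of κ)) := MorphismProperty.pullback_snd (P := @Smooth) _ _ ‹_›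
  haveI : GeometricallyConnected (F ↘ Spec (CommRingCat.of κ)) :=
    MorphismProperty.pullback_snd (P := @GeometricallyConnected) _ _ ‹_›
  have h0 : CurveRR.h κ (Coh.structureModule F) 0 = 1 := W7Cover.h0_of_geometricallyConnected
  have hC := CurveOmega.smoothProper_bar κ F (hdim s) h0
  have hg : 2 ≤ Curv2.genus (AlgebraicClosure κ) (CurveOmega.bar κ F) := by
    rw [CurveOmega.genus_bar κ F]; exact hgen s
  let X' := Red.bc b (Red.bc y X)
  let G' := Red.bc b (Red.bc y G)
  haveI : IsProper X'.hom := hC.1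
  haveI : LocallyOfFiniteType G'.hom :=
    MorphismProperty.pullback_snd (P := @LocallyOfFiniteType) _ _
      (MorphismProperty.pullback_snd (P := @LocallyOfFiniteType) _ _ ‹_›)
  have hfu : FormallyUnramified G'.hom := by
    refine (LieDer.main ((a.bc y).bc b) (represents_bc _ _ (represents_bc _ _ hG))).2 fun D U t => ?_
    obtain ⟨α, hα, -⟩ := OmegaLib.isUniversal_dOmega (CurveOmega.bar κ F ↘ Spec (CommRingCat.of (AlgebraicClosure κ))) _ D
    rw [← hα, CurveOmega.hom_structure_eq_zero (AlgebraicClosure κ) (CurveOmega.bar κ F) hC hg α]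
    rfl
  exact MorphismProperty.of_pullback_snd_of_descendsAlong (P := @FormallyUnramified)
    (Q := @Surjective ⊓ @Flat ⊓ @QuasiCompact) (f := pullback.snd G.hom y) (g := b)
    ⟨⟨‹_›, ‹_›⟩, inferInstance⟩ hfu

end Groth.Agent.AutCurve
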